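import Cfsg.Agent.FlavellPSL.Pairs

/-!
# A pair of partners fixed by a group of odd order coprime to G
-/

set_option autoImplicit false

namespace Cfsg.Agent.FlavellPSL

open Cfsg
open Cfsg.Agent.RootSub Cfsg.Agent.RootSub.Quad Cfsg.Agent.FlavellQuad
open scoped MatrixGroups Pointwise

variable {p : ℕ} [Fact p.Prime] {M : Type*} [AddCommGroup M] [Module (ZMod p) M]

local notation "𝔾" => LinearMap.GeneralLinearGroup (ZMod p) M
local notation "𝔼" => Module.End (ZMod p) M

variable {G A : Subgroup (LinearMap.GeneralLinearGroup (ZMod p) M)}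

/-- Conjugation as an action on endomorphisms. -/
@[reducible] def endAction : MulAction (LinearMap.GeneralLinearGroup (ZMod p) M)
    (Module.End (ZMod p) M) where
  smul := fun g x => conjEnd g x
  one_smul := conjEnd_one
  mul_smul := fun g h x => (conjEnd_conjEnd h x).symm

variable [FiniteDimensional (ZMod p) M] {a b : Module.End (ZMod p) M}

theorem conjEnd_mem_root {g : 𝔾} (hG : conjBy G g = G)
    (hg : conjBy (rootGroup G a) g = rootGroup G a) {x : 𝔼} (hx : x ∈ rootSpace G a) :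
    conjEnd g x ∈ rootSpace G a := by
  rw [conjBy_rootGroupN hG] at hg
  exact rootSpace_eq_of_rootGroup hg ▸ conjEnd_memN hG hx

theorem Partner.conj {x y : 𝔼} (h : Partner G a b x y) {g : 𝔾} (hG : conjBy G g = G)
    (hga : conjBy (rootGroup G a) g = rootGroup G a)
    (hgb : conjBy (rootGroup G b) g = rootGroup G b) :
    Partner G a b (conjEnd g x) (conjEnd g y) := by
  refine ⟨conjEnd_mem_root hG hga h.left, conjEnd_mem_root hG hgb h.right, fun h0 => h.ne ?_,
    by rw [conjEnd_mul, conjEnd_mul, h.eq], by rw [conjEnd_mul, conjEnd_mul, h.eq']⟩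
  rw [← conjEnd_one x, ← inv_mul_cancel g, ← conjEnd_conjEnd, h0]
  simp [conjEnd]

variable (hp : 5 ≤ p) (hcop : (Nat.card A).Coprime (Nat.card G))
  (hn : ∀ t ∈ A, conjBy G t = G) (hA : Group.IsSolvable A) (hodd : Odd (Nat.card A))
  (ha : IsMin G a) (hb : IsMin G b) (hab : IsOpp a b)
  (hfa : ∀ t ∈ A, conjBy (rootGroup G a) t = rootGroup G a)
  (hfb : ∀ t ∈ A, conjBy (rootGroup G b) t = rootGroup G b)

include hp ha hb hab in
/-- Among three elements of a root space two are in one orbit. -/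
theorem two_related {z : Fin 3 → 𝔼} (hz : ∀ i, z i ∈ rootSpace G a) (hz0 : ∀ i, z i ≠ 0) :
    ∃ i j, i ≠ j ∧ Rel G a (z i) (z j) := by
  classical
  by_contra hcon
  push Not at hcon
  haveI : Finite M := Module.finite_of_finite (ZMod p)
  haveI : Finite 𝔼 := Finite.of_injective (fun f : 𝔼 => ⇑f) DFunLike.coe_injective
  haveI : Fintype 𝔼 := Fintype.ofFinite _
  choose y hy using fun i => exists_partner' hp ha hb hab (hz i) (hz0 i)
  set U : Finset 𝔼 := Finset.univ.filter fun x => x ∈ rootSpace G a ∧ x ≠ 0 with hU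
  set S : Fin 3 → Finset 𝔼 := fun i => U.image fun x => x * y i * x with hS
  have hbig : ∀ i, U.card ≤ 2 * (S i).card := fun i => by
    refine Finset.card_le_mul_card_image (f := fun x => x * y i * x) U 2 fun w hw => ?_
    obtain ⟨x₀, hx₀, rfl⟩ := Finset.mem_image.mp hw
    refine (Finset.card_le_card (t := {x₀, -x₀}) fun x hx => ?_).trans Finset.card_le_two
    rw [Finset.mem_filter] at hx
    rw [Finset.mem_insert, Finset.mem_singleton]
    exact sandwich_inj hp ha hb hab (hy i) (Finset.mem_filter.mp hx.1).2.1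
      (Finset.mem_filter.mp hx₀).2.1 hx.2
  have hsub : ∀ i, ∀ w ∈ S i, w ∈ U ∧ Rel G a (z i) w := by
    intro i w hw
    obtain ⟨x, hx, rfl⟩ := Finset.mem_image.mp hw
    obtain ⟨hxm, hx0⟩ := (Finset.mem_filter.mp hx).2
    obtain ⟨x', hx'⟩ := exists_partner' hp ha hb hab hxm hx0
    obtain ⟨h1, h2, h3⟩ := rel_sandwich ha hb hx' (hy i)
    exact ⟨Finset.mem_filter.mpr ⟨Finset.mem_univ _, h1, h2⟩, h3⟩
  have hdisj : ∀ i j, i ≠ j → Disjoint (S i) (S j) := fun i j hij =>
    Finset.disjoint_left.mpr fun w hwi hwj =>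
      hcon i j hij ((hsub i w hwi).2.trans (hsub j w hwj).2.symm)
  have hle : (S 0 ∪ S 1 ∪ S 2).card ≤ U.card := Finset.card_le_card fun w hw => by
    simp only [Finset.mem_union] at hw
    rcases hw with (hw | hw) | hw <;> exact (hsub _ w hw).1
  rw [Finset.card_union_of_disjoint (Finset.disjoint_union_left.mpr
      ⟨hdisj 0 2 (by decide), hdisj 1 2 (by decide)⟩),
    Finset.card_union_of_disjoint (hdisj 0 1 (by decide))] at hle
  have hpos : 0 < U.card :=
    Finset.card_pos.mpr ⟨z 0, Finset.mem_filter.mpr ⟨Finset.mem_univ _, hz 0, hz0 0⟩⟩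
  have := hbig 0
  have := hbig 1
  have := hbig 2
  omega

omit [FiniteDimensional (ZMod p) M] in
theorem Rel.conj {g : 𝔾} (hG : conjBy G g = G)
    (hga : conjBy (rootGroup G a) g = rootGroup G a) {z w : 𝔼} :
    Rel G a z w → Rel G a (conjEnd g z) (conjEnd g w) := by
  rintro ⟨k, hk, rfl⟩
  obtain ⟨hkG, hka⟩ := rootNorm_mem_iff.mp hk
  refine ⟨g * k * g⁻¹, rootNorm_mem_iff.mpr ⟨hG ▸ conjBy_mem hkG g, ?_⟩, ?_⟩
  · rw [← conjBy_conjBy, ← conjBy_conjBy, conjBy_inv_eq hga, hka, hga]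
  · rw [conjEnd_conjEnd, conjEnd_conjEnd, inv_mul_cancel_right]

include hp hn hodd ha hb hab hfa in
theorem rel_self {t : 𝔾} (ht : t ∈ A) : Rel G a a (conjEnd t a) := by
  haveI : Finite 𝔾 := finite_gl
  have hr : ∀ n : ℕ, Rel G a a (conjEnd (t ^ n) a) → ∀ m : ℕ, Rel G a a (conjEnd (t ^ (n * m)) a) := by
    intro n hn' m
    induction m with
    | zero => exact ⟨1, one_mem _, by rw [mul_zero, pow_zero]⟩
    | succ m ih =>
      refine ih.trans ?_
      have h := hn'.conj (hn _ (pow_mem ht (n * m))) (hfa _ (pow_mem ht (n * m)))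
      rwa [conjEnd_conjEnd, ← pow_add, ← Nat.mul_succ] at h
  obtain ⟨k, hk⟩ : Odd (orderOf t) :=
    hodd.of_dvd_nat (Subgroup.orderOf_dvd_natCard A ht)
  obtain ⟨i, j, hij, hrel⟩ := two_related hp ha hb hab
    (z := fun i : Fin 3 => conjEnd (t ^ (i : ℕ)) a)
    (fun i => conjEnd_mem_root (hn _ (pow_mem ht _)) (hfa _ (pow_mem ht _)) ha.self_mem)
    (fun i => (isQuad_conjN (hn _ (pow_mem ht _)) ha.toIsQuad).ne_zero)
  have key : ∀ i j : ℕ, i < j → Rel G a (conjEnd (t ^ i) a) (conjEnd (t ^ j) a) →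
      Rel G a a (conjEnd (t ^ (j - i)) a) := by
    intro i j hlt h
    have h' := h.conj (hn _ (inv_mem (pow_mem ht i))) (hfa _ (inv_mem (pow_mem ht i)))
    rwa [conjEnd_conjEnd, conjEnd_conjEnd, inv_mul_cancel, conjEnd_one,
      show (t ^ i)⁻¹ * t ^ j = t ^ (j - i) by
        rw [inv_mul_eq_iff_eq_mul, ← pow_add, Nat.add_sub_cancel' hlt.le]] at h'
  obtain ⟨d, hd, hdrel⟩ : ∃ d, (d = 1 ∨ d = 2) ∧ Rel G a a (conjEnd (t ^ d) a) := by
    have hlt : (i : ℕ) ≠ j := fun e => hij (Fin.ext e)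
    have := i.2
    have := j.2
    rcases Nat.lt_or_ge (i : ℕ) j with h | h
    · exact ⟨_, by omega, key _ _ h hrel⟩
    · exact ⟨_, by omega, key j i (lt_of_le_of_ne h (Ne.symm hlt)) hrel.symm⟩
  rcases hd with rfl | rfl
  · rwa [pow_one] at hdrel
  · have := hr 2 hdrel (k + 1)
    rwa [show 2 * (k + 1) = orderOf t + 1 by omega, pow_succ, pow_orderOf_eq_one, one_mul] at this

include hp hcop hn hA hodd ha hb hab hfa hfb in
/-- A pair of partners fixed by A. -/
theorem exists_fixed_partner :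
    ∃ x y, Partner G a b x y ∧ ∀ t ∈ A, conjEnd t x = x ∧ conjEnd t y = y := by
  haveI : Finite 𝔾 := finite_gl
  letI := endAction (p := p) (M := M)
  have hNn : A ≤ Subgroup.normalizer (rootNorm G a : Set 𝔾) := fun t ht =>
    conjBy_eq_self_iff.mp (by
      refine FlavellQuad.conjBy_eq_self_of_forall fun k hk => ?_
      obtain ⟨hkG, hka⟩ := rootNorm_mem_iff.mp hk
      refine rootNorm_mem_iff.mpr ⟨hn t ht ▸ conjBy_mem hkG t, ?_⟩
      rw [← conjBy_conjBy, ← conjBy_conjBy, conjBy_inv_eq (hfa t ht), hka, hfa t ht])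
  obtain ⟨k, hk, hfix⟩ := Coprime.exists_fixed_point hNn
    (hcop.coprime_dvd_right (Subgroup.card_dvd_of_le inf_le_left)) (Or.inl hA) a
    fun t ht => by
      obtain ⟨g, hg, he⟩ := rel_self hp hn hodd ha hb hab hfa ht
      exact ⟨g, hg, he.symm⟩
  obtain ⟨hkG, hka⟩ := rootNorm_mem_iff.mp hk
  have hx : conjEnd k a ∈ rootSpace G a := conjEnd_mem_root (conjBy_mem_self hkG) hka ha.self_mem
  obtain ⟨y, hy⟩ := exists_partner' hp ha hb hab hx (ha.conj hkG).ne_zero
  refine ⟨_, y, hy, fun t ht => ?_⟩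
  have h1 : conjEnd t (conjEnd k a) = conjEnd k a := hfix t ht
  refine ⟨h1, ?_⟩
  have h2 := hy.conj (hn t ht) (hfa t ht) (hfb t ht)
  rw [h1] at h2
  exact h2.unique ha hb hy

include hp hcop hn hA in
/-- An opposite member fixed by A. -/
theorem exists_fixed_opposite (hpure : NoUnipNormal G) (ha : IsMin G a)
    (hfa : ∀ t ∈ A, conjBy (rootGroup G a) t = rootGroup G a) :
    ∃ b, IsMin G b ∧ IsOpp a b ∧ ∀ t ∈ A, conjBy (rootGroup G b) t = rootGroup G b := by
  haveI : Finite 𝔾 := finite_gl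
  letI : MulAction 𝔾 (Subgroup 𝔾) :=
    MulAction.compHom (Subgroup 𝔾) (MulAut.conj : 𝔾 →* MulAut 𝔾)
  obtain ⟨g, hg, hopp⟩ := exists_opposite (two_ne hp) (card_ne_three hp) hpure ha
  set c := conjEnd g a
  have hc : IsMin G c := ha.conj hg
  have hopp' : ∀ u : 𝔾, conjBy G u = G → conjBy (rootGroup G a) u = rootGroup G a → ∀ d, IsMin G d →
      IsOpp a d → IsOpp a (conjEnd u d) := by
    intro u hu hua d hd had
    refine (isOpp_congr (two_ne hp) (card_ne_three hp) ha (isMin_conjN hu hd)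
      (conjEnd_mem_root hu hua ha.self_mem) (isQuad_conjN hu ha.toIsQuad).ne_zero
      (isMin_conjN hu hd).self_mem (isMin_conjN hu hd).ne_zero).mp ?_
    exact (isOpp_conj u).mpr had
  have hqn : A ≤ Subgroup.normalizer (qK G a : Set 𝔾) := fun t ht => conjBy_eq_self_iff.mp (by
    refine FlavellQuad.conjBy_eq_self_of_forall fun q hq => ⟨?_, ?_⟩
    · have h := mem_qCore_conj (hn t ht) hq.1
      rwa [qCore_eq ha (conjEnd_mem_root (hn t ht) (hfa t ht) ha.self_mem)
        (isQuad_conjN (hn t ht) ha.toIsQuad).ne_zero] at h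
    · have h := conjBy_mem hq.2 t
      rwa [compGroup_conjN (hn t ht), hfa t ht] at h)
  obtain ⟨q, hq, hfix⟩ := Coprime.exists_fixed_point hqn
    (hcop.coprime_dvd_right (Subgroup.card_dvd_of_le (qK_le a))) (Or.inl hA) (rootGroup G c)
    fun t ht => by
      obtain ⟨q, hq, he⟩ := exists_qK_conj hp ha hc hopp (isMin_conjN (hn t ht) hc)
        (hopp' t (hn t ht) (hfa t ht) c hc hopp)
      refine ⟨q, hq, ?_⟩
      change conjBy (rootGroup G c) t = conjBy (rootGroup G c) q
      rw [he, conjBy_rootGroupN (hn t ht)]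
  have hqG : q ∈ G := qK_le a hq
  have hqa : conjBy (rootGroup G a) q = rootGroup G a := by
    rw [conjBy_rootGroup hqG, qK_fix hq]
  refine ⟨conjEnd q c, hc.conj hqG, hopp' q (conjBy_mem_self hqG) hqa c hc hopp, fun t ht => ?_⟩
  rw [← conjBy_rootGroup hqG]
  exact hfix t ht

end Cfsg.Agent.FlavellPSL
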