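import Cfsg.Agent.FlavellPSL.Fixed
import Cfsg.Agent.FlavellQuad.Case
import Cfsg.Agent.RootSub.SL2
import Cfsg.Agent.S0205

/-!
# A copy of an image of SL₂(p) fixed by a coprime group
-/

set_option autoImplicit false

namespace Cfsg.Agent.FlavellPSL

open Cfsg
open Cfsg.Agent.RootSub Cfsg.Agent.RootSub.Quad Cfsg.Agent.FlavellQuad
open scoped MatrixGroups Pointwise

variable {p : ℕ} [Fact p.Prime] {M : Type*} [AddCommGroup M] [Module (ZMod p) M]

local notation "𝔾" => LinearMap.GeneralLinearGroup (ZMod p) M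
local notation "𝔼" => Module.End (ZMod p) M

/-- The endomorphism attached to a matrix by a pair x, y. -/
def pairMat (x y : Module.End (ZMod p) M) (g : Matrix (Fin 2) (Fin 2) (ZMod p)) :
    Module.End (ZMod p) M :=
  1 + (g 0 0 - 1) • (x * y) + (g 1 1 - 1) • (y * x) + g 0 1 • x + g 1 0 • y

/-- The representation of SL₂(p) attached to a pair x, y. -/
noncomputable def pairHom {x y : Module.End (ZMod p) M} (hx : x * x = 0) (hy : y * y = 0)
    (h1 : x * y * x = x) (h2 : y * x * y = y) :
    SL(2, ZMod p) →* LinearMap.GeneralLinearGroup (ZMod p) M :=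
  MonoidHom.toHomUnits
    { toFun := fun g => pairMat x y g
      map_one' := by simp [pairMat]
      map_mul' := fun g k => by
        have e1 : x * y * (x * y) = x * y := by rw [← mul_assoc, h1]
        have e2 : y * x * (y * x) = y * x := by rw [← mul_assoc, h2]
        have e3 : x * y * (y * x) = 0 := by rw [← mul_assoc, mul_assoc x y y, hy, mul_zero, zero_mul]
        have e4 : y * x * (x * y) = 0 := by rw [← mul_assoc, mul_assoc y x x, hx, mul_zero, zero_mul]
        have e5 : x * y * y = 0 := by rw [mul_assoc, hy, mul_zero]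
        have e6 : y * x * x = 0 := by rw [mul_assoc, hx, mul_zero]
        have e7 : x * (x * y) = 0 := by rw [← mul_assoc, hx, zero_mul]
        have e8 : y * (y * x) = 0 := by rw [← mul_assoc, hy, zero_mul]
        have e9 : x * (y * x) = x := by rw [← mul_assoc, h1]
        have e10 : y * (x * y) = y := by rw [← mul_assoc, h2]
        simp only [pairMat, Matrix.SpecialLinearGroup.coe_mul, Matrix.mul_apply, Fin.sum_univ_two,
          mul_add, add_mul, one_mul, mul_one, smul_mul_assoc, mul_smul_comm, e1, e2, e3, e4, e5, e6,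
          e7, e8, e9, e10, hx, hy, h1, h2, smul_zero, add_zero, zero_add, smul_smul]
        module }

variable {x y : Module.End (ZMod p) M} (hx : x * x = 0) (hy : y * y = 0)
  (h1 : x * y * x = x) (h2 : y * x * y = y)

theorem coe_pairHom (g : SL(2, ZMod p)) : (pairHom hx hy h1 h2 g : 𝔼) = pairMat x y g := rfl

theorem pairHom_up (t : ZMod p) : (pairHom hx hy h1 h2 (SL2.up t) : 𝔼) = 1 + t • x := by
  rw [coe_pairHom, pairMat, SL2.coe_up]
  simp

theorem pairHom_low (t : ZMod p) : (pairHom hx hy h1 h2 (SL2.low t) : 𝔼) = 1 + t • y := by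
  rw [coe_pairHom, pairMat, SL2.coe_low]
  simp

/-- The image is in every group holding the two lines. -/
theorem pairHom_range_le {K : Subgroup (LinearMap.GeneralLinearGroup (ZMod p) M)}
    (hxK : ∀ t : ZMod p, InG K (1 + t • x)) (hyK : ∀ t : ZMod p, InG K (1 + t • y)) :
    (pairHom hx hy h1 h2).range ≤ K := by
  rw [MonoidHom.range_eq_map, ← SL2.sup_eq_top, Subgroup.map_sup]
  refine sup_le ?_ ?_
  · rintro _ ⟨g, hg, rfl⟩
    obtain ⟨t, rfl⟩ := SL2.mem_lower.mp hg
    exact InG.mem (pairHom_low hx hy h1 h2 t ▸ hyK t)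
  · rintro _ ⟨g, hg, rfl⟩
    obtain ⟨t, rfl⟩ := SL2.mem_upper.mp hg
    exact InG.mem (pairHom_up hx hy h1 h2 t ▸ hxK t)

theorem pairHom_neg_one_ne_one (h5 : 5 ≤ p) (hx0 : x ≠ 0) : pairHom hx hy h1 h2 (-1) ≠ 1 := by
  intro h
  have h' := congrArg (fun u : 𝔾 => (u : 𝔼) * x) h
  simp only [coe_pairHom, pairMat, Matrix.SpecialLinearGroup.coe_neg,
    Matrix.SpecialLinearGroup.coe_one, Units.val_one, add_mul, one_mul, smul_mul_assoc, hx,
    mul_assoc x y x] at h'
  simp [mul_assoc, ← mul_assoc x y, hx, h1] at h'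
  have h3 : ((-1 : ZMod p) - 1) = 0 := by
    by_contra hne
    exact hx0 (by simpa [hne] using h')
  exact two_ne h5 (by linear_combination -h3)

theorem conj_pairHom {g : 𝔾} (hgx : conjEnd g x = x) (hgy : conjEnd g y = y) (s : SL(2, ZMod p)) :
    g * pairHom hx hy h1 h2 s * g⁻¹ = pairHom hx hy h1 h2 s := by
  refine Units.ext ?_
  rw [Units.val_mul, Units.val_mul, coe_pairHom]
  show conjEnd g (pairMat x y s) = pairMat x y s
  have e1 : ∀ u v : 𝔼, conjEnd g (u + v) = conjEnd g u + conjEnd g v := fun u v => by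
    simp [conjEnd, mul_add, add_mul]
  have e2 : ∀ (c : ZMod p) (u : 𝔼), conjEnd g (c • u) = c • conjEnd g u := fun c u => by
    simp [conjEnd]
  have e3 : conjEnd g (1 : 𝔼) = 1 := by simp [conjEnd]
  simp only [pairMat, e1, e2, e3, ← conjEnd_mul, hgx, hgy]

variable [FiniteDimensional (ZMod p) M]
  {G A : Subgroup (LinearMap.GeneralLinearGroup (ZMod p) M)}

/-- Where G is generated by quadratic elements. -/
theorem exists_hom_gen (hp : 5 ≤ p) (hn : ∀ t ∈ A, conjBy G t = G)
    (hcop : (Nat.card A).Coprime (Nat.card G)) (hpure : NoUnipNormal G)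
    (hgen : Subgroup.closure (quadraticElements G) = G) {q : 𝔼} (hq : IsQuad G q) :
    ∃ Ψ : SL(2, ZMod p) →* 𝔾, Ψ.range ≤ G ⊓ Subgroup.centralizer (A : Set 𝔾) ∧ Ψ ≠ 1 := by
  classical
  haveI : Finite 𝔾 := finite_gl
  have h5 := hp
  obtain ⟨a₀, ha₀⟩ := exists_isMin hq
  -- G has even order, so A has odd order
  have heven : 2 ∣ Nat.card G := by
    obtain ⟨g, hg, hopp⟩ := exists_opposite (two_ne hp) (card_ne_three hp) hpure ha₀
    obtain ⟨y, hy⟩ := exists_partner' hp ha₀ (ha₀.conj hg) hopp ha₀.self_mem ha₀.ne_zero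
    set f := pairHom hy.sq_left hy.sq_right hy.eq hy.eq'
    have hf : f (-1) ∈ G := pairHom_range_le hy.sq_left hy.sq_right hy.eq hy.eq'
      (fun t => hy.left.2.2 t) (fun t => hy.right.2.2 t) ⟨_, rfl⟩
    have h2' : orderOf (f (-1)) = 2 := orderOf_eq_prime
      (by rw [← map_pow, show (-1 : SL(2, ZMod p)) ^ 2 = 1 by rw [pow_two, neg_mul_neg, one_mul],
        map_one])
      (pairHom_neg_one_ne_one hy.sq_left hy.sq_right hy.eq hy.eq' h5 ha₀.ne_zero)
    exact h2' ▸ Subgroup.orderOf_dvd_natCard G hf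
  have hodd : Odd (Nat.card A) := Nat.odd_iff.mpr (by
    have h := hcop.coprime_dvd_right heven
    rw [Nat.coprime_two_right, Nat.odd_iff] at h
    exact h)
  have hsolv : Group.IsSolvable A := Cfsg.Agent.S0205.result hodd
  -- a canonical member and its stabiliser
  obtain ⟨P, -, hPA⟩ := Coprime.exists_le_invariant_sylow (p := p)
    (fun t ht => conjBy_eq_self_iff.mp (hn t ht)) hcop (Or.inl hsolv) bot_le IsPGroup.of_bot
    (fun t _ => conjBy_eq_self_iff.mp (conjBy_bot t))
  set S := (P : Subgroup G).map G.subtype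
  have hS : IsSyl p G S := isSyl_map P
  have hSA : ∀ t ∈ A, conjBy S t = S := fun t ht => conjBy_eq_self_iff.mpr (hPA ht)
  obtain ⟨U, hUc, -⟩ := exists_canon hp hpure hgen hS ha₀.mem_sigma
  obtain ⟨a, ha, rfl⟩ := mem_quadraticRootSubgroups.mp hUc.1
  set A₁ := A ⊓ Subgroup.normalizer (rootGroup G a : Set 𝔾) with hA₁
  have hfa : ∀ t ∈ A₁, conjBy (rootGroup G a) t = rootGroup G a := fun t ht =>
    conjBy_eq_self_iff.mpr ht.2
  have hn₁ : ∀ t ∈ A₁, conjBy G t = G := fun t ht => hn t ht.1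
  have hcop₁ := hcop.coprime_dvd_left (Subgroup.card_dvd_of_le (inf_le_left : A₁ ≤ A))
  have hsolv₁ : Group.IsSolvable A₁ := by
    haveI := hsolv
    exact Group.isSolvable_of_isSolvable_injective (Subgroup.inclusion_injective (inf_le_left : A₁ ≤ A))
  obtain ⟨b, hb, hab, hfb⟩ := exists_fixed_opposite hp hcop₁ hn₁ hsolv₁ hpure ha hfa
  obtain ⟨u, v, huv, hfix⟩ := exists_fixed_partner hp hcop₁ hn₁ hsolv₁
    (hodd.of_dvd_nat (Subgroup.card_dvd_of_le inf_le_left)) ha hb hab hfa hfb
  set φ := pairHom huv.sq_left huv.sq_right huv.eq huv.eq' with hφdef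
  have hφK : φ.range ≤ compGroup G (rootGroup G a) := by
    refine pairHom_range_le _ _ _ _ (fun t => ?_) (fun t => ?_)
    · have h : t • u ∈ rootSpace G a := Submodule.smul_mem _ t huv.left
      exact ⟨oneAddUnit _ (mul_eq_zero_of_mem h h),
        le_compGroup (self_mem_compSet ha.mem_sigma) (oneAddUnit_mem h _), rfl⟩
    · have h : t • v ∈ rootSpace G b := Submodule.smul_mem _ t huv.right
      exact ⟨oneAddUnit _ (mul_eq_zero_of_mem h h),
        le_compGroup_opp hp ha hb hab (oneAddUnit_mem h _), rfl⟩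
  -- the orbit of the member
  let I := {B : Subgroup 𝔾 // ∃ t ∈ A, conjBy (rootGroup G a) t = B}
  haveI : Fintype I := Fintype.ofFinite I
  choose τ hτA hτ using fun i : I => i.2
  let ψ : I → (SL(2, ZMod p) →* 𝔾) := fun i => (MulAut.conj (τ i)).toMonoidHom.comp φ
  have hψ : ∀ (i : I) (s : 𝔾), s ∈ A → conjBy (rootGroup G a) s = i.1 → ∀ g,
      ψ i g = s * φ g * s⁻¹ := by
    intro i s hs hsi g
    have ht : s⁻¹ * τ i ∈ A₁ := by
      refine ⟨A.mul_mem (A.inv_mem hs) (hτA i), conjBy_eq_self_iff.mp ?_⟩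
      rw [← conjBy_conjBy, hτ i, ← hsi, conjBy_inv_cancel]
    obtain ⟨h3, h4⟩ := hfix _ ht
    show τ i * φ g * (τ i)⁻¹ = s * φ g * s⁻¹
    conv_rhs => rw [hφdef, ← conj_pairHom huv.sq_left huv.sq_right huv.eq huv.eq' h3 h4 g]
    group
    rw [hφdef]
  have hmem : ∀ i g, ψ i g ∈ compGroup G i.1 := by
    intro i g
    rw [← hτ i, ← compGroup_conjN (hn _ (hτA i))]
    exact conjBy_mem (hφK ⟨g, rfl⟩) (τ i)
  have hcomm : Pairwise fun i j => ∀ g k, Commute (ψ i g) (ψ j k) := by
    intro i j hij g k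
    have hne : ¬ Conn G i.1 j.1 := fun hc => hij (Subtype.ext
      ((canon_transversal hp hpure hgen hS).eq_of_conn _
        (hτ i ▸ canon_conjN (hn _ (hτA i)) (hSA _ (hτA i)) hUc) _
        (hτ j ▸ canon_conjN (hn _ (hτA j)) (hSA _ (hτA j)) hUc) hc))
    have h := compGroup_commute (two_ne hp) (card_ne_three hp) hpure hne
    rw [Subgroup.commutator_eq_bot_iff_le_centralizer] at h
    exact (Subgroup.mem_centralizer_iff.mp (h (hmem i g)) _ (hmem j k)).symm
  set Φ := MonoidHom.noncommPiCoprod ψ hcomm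
  set Ψ := Φ.comp (MonoidHom.mk' (fun (g : SL(2, ZMod p)) (_ : I) => g) fun _ _ => rfl) with hΨ
  refine ⟨Ψ, ?_, ?_⟩
  · rintro _ ⟨g, rfl⟩
    refine ⟨?_, Subgroup.mem_centralizer_iff.mpr fun s hs => ?_⟩
    · show Φ (fun _ => g) ∈ G
      simp only [Φ, MonoidHom.noncommPiCoprod, MonoidHom.coe_mk, OneHom.coe_mk]
      exact Subgroup.noncommProd_mem G _ fun i _ => compGroup_le (hmem i g)
    · let σ : I ≃ I := Equiv.ofBijective (fun i => ⟨conjBy i.1 s, s * τ i, mul_mem hs (hτA i), by
          rw [← conjBy_conjBy, hτ i]⟩) (Finite.injective_iff_bijective.mp fun i j h =>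
          Subtype.ext (by
            have h' := congrArg (fun k : I => conjBy k.1 s⁻¹) h
            simpa [conjBy_inv_cancel] using h'))
      have hσ : ∀ i, s * ψ i g * s⁻¹ = ψ (σ i) g := fun i => by
        rw [hψ (σ i) (s * τ i) (mul_mem hs (hτA i)) (by rw [← conjBy_conjBy, hτ i]; rfl) g]
        show s * (τ i * φ g * (τ i)⁻¹) * s⁻¹ = _
        group
      have key : (MulAut.conj s) (Φ fun _ => g) = Φ fun _ => g := by
        simp only [Φ, MonoidHom.noncommPiCoprod, MonoidHom.coe_mk, OneHom.coe_mk]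
        refine (Finset.map_noncommProd _ _ _ (MulAut.conj s)).trans ?_
        simp only [Finset.noncommProd]
        congr 1
        simp only [MulAut.conj_apply, hσ]
        conv_rhs => rw [← Multiset.map_univ_val_equiv σ, Multiset.map_map]
        rfl
      rw [MulAut.conj_apply, mul_inv_eq_iff_eq_mul] at key
      exact key
  · intro hΨ1
    set g := SL2.up (1 : ZMod p)
    set k := SL2.low (1 : ZMod p)
    have i₀ : I := ⟨rootGroup G a, 1, one_mem _, by rw [conjBy, map_one]; exact Subgroup.map_id _⟩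
    have hone : Φ (fun _ => g) = 1 := DFunLike.congr_fun hΨ1 g
    have hc : ∀ i : I, ψ i g * ψ i k = ψ i k * ψ i g := by
      intro i
      have e : (fun _ : I => g) * Pi.mulSingle i k * (fun _ : I => g)⁻¹ * (Pi.mulSingle i k)⁻¹ =
          Pi.mulSingle i (g * k * g⁻¹ * k⁻¹) := by
        funext j
        rcases eq_or_ne j i with rfl | hji
        · simp
        · simp [hji]
      have h := congrArg Φ e
      rw [map_mul, map_mul, map_mul, map_inv, map_inv, hone, MonoidHom.noncommPiCoprod_mulSingle,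
        MonoidHom.noncommPiCoprod_mulSingle] at h
      have h' : ψ i (g * k * g⁻¹ * k⁻¹) = 1 := by rw [← h]; group
      rw [map_mul, map_mul, map_mul, map_inv, map_inv, mul_inv_eq_one, mul_inv_eq_iff_eq_mul] at h'
      exact h'
    have h := hc i₀
    simp only [ψ, MonoidHom.comp_apply, ← map_mul] at h
    have h' := congrArg Units.val ((MulAut.conj (τ i₀)).injective h)
    rw [map_mul, map_mul, Units.val_mul, Units.val_mul, hφdef, pairHom_up, pairHom_low, one_smul,
      one_smul] at h'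
    have huvc : u * v = v * u := by
      have e1 : (1 + u) * (1 + v) = 1 + u + v + u * v := by noncomm_ring
      have e2 : (1 + v) * (1 + u) = 1 + u + v + v * u := by noncomm_ring
      rw [e1, e2] at h'
      exact add_left_cancel h'
    exact huv.ne (by rw [← huv.eq, huvc, mul_assoc, huv.sq_left, mul_zero])

/-- A quadratic element outside the p-core gives a fixed image of SL₂(p). -/
theorem exists_hom (hp : 5 ≤ p) (hn : ∀ t ∈ A, conjBy G t = G)
    (hcop : (Nat.card A).Coprime (Nat.card G)) (hcore : opCore p G = ⊥) {q : 𝔼}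
    (hq : IsQuad G q) :
    ∃ Ψ : SL(2, ZMod p) →* 𝔾, Ψ.range ≤ G ⊓ Subgroup.centralizer (A : Set 𝔾) ∧ Ψ ≠ 1 := by
  haveI : Finite 𝔾 := finite_gl
  set G₀ := Subgroup.closure (quadraticElements G) with hG₀
  have hle : G₀ ≤ G := (Subgroup.closure_le _).mpr fun _ hσ => hσ.1
  have hquad : ∀ {w : 𝔼}, IsQuad G w → IsQuad G₀ w := fun {w} hw => by
    refine ⟨hw.ne_zero, hw.sq, fun t => ?_⟩
    rcases eq_or_ne t 0 with rfl | ht
    · rw [zero_smul, add_zero]; exact InG.one
    have hsq : (t • w) * (t • w) = 0 := by rw [smul_mul_smul_comm, hw.sq, smul_zero]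
    have hw' : IsQuad G (t • w) :=
      ⟨smul_ne_zero ht hw.ne_zero, hsq, fun c => by rw [smul_smul]; exact hw.inG _⟩
    exact ⟨_, Subgroup.subset_closure hw'.mem_quadraticElements, rfl⟩
  have hgen : Subgroup.closure (quadraticElements G₀) = G₀ :=
    le_antisymm ((Subgroup.closure_le _).mpr fun _ hσ => hσ.1)
      ((Subgroup.closure_le _).mpr fun σ hσ =>
        Subgroup.subset_closure ((isQuad_iff σ).mpr (hquad ((isQuad_iff σ).mp hσ))))
  have hnorm : ∀ g : 𝔾, conjBy G g = G → conjBy G₀ g = G₀ := fun g hg => by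
    refine FlavellQuad.conjBy_eq_self_of_forall fun z hz => ?_
    induction hz using Subgroup.closure_induction with
    | mem σ hσ =>
      refine Subgroup.subset_closure ((isQuad_iff _).mpr ?_)
      have h := isQuad_conjN hg ((isQuad_iff σ).mp hσ)
      convert h using 1
      simp [conjEnd, mul_sub, sub_mul]
    | one => simp [one_mem]
    | mul y z _ _ hy hz => simpa [mul_assoc] using mul_mem hy hz
    | inv y _ hy => simpa [mul_assoc] using inv_mem hy
  have hcore₀ : opCore p G₀ = ⊥ := by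
    rw [eq_bot_iff, ← hcore]
    exact le_opCore ((opCore_le _).trans hle) (opCore_isPGroup _) fun g hg =>
      conjBy_opCore (hnorm g (conjBy_mem_self hg))
  obtain ⟨Ψ, hΨ, hne⟩ := exists_hom_gen hp (fun t ht => hnorm t (hn t ht))
    (hcop.coprime_dvd_right (Subgroup.card_dvd_of_le hle)) (noUnipNormal_of_opCore hcore₀) hgen
    (hquad hq)
  exact ⟨Ψ, hΨ.trans (inf_le_inf_right _ hle), hne⟩

end Cfsg.Agent.FlavellPSL
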