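import Mathlib

/-!
# Square roots in a space of invertible endomorphisms closed under squares
-/

set_option autoImplicit false

namespace Cfsg.Agent.FlavellPSL

variable {p : ℕ} [Fact p.Prime] {E : Type*} [Ring E] [Nontrivial E] [Finite E] [Algebra (ZMod p) E]

/-- In a linear space of invertible elements containing 1 and closed under squares, square roots are
unique up to sign. -/
theorem sq_eq_sq (hp : p ≠ 2) (F : Submodule (ZMod p) E) (h1 : (1 : E) ∈ F)
    (hsq : ∀ u ∈ F, u * u ∈ F) (hu : ∀ u ∈ F, u ≠ 0 → IsUnit u) {u v : E} (huF : u ∈ F)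
    (hvF : v ∈ F) (h : u * u = v * v) : u = v ∨ u = -v := by
  haveI : CharP E p := charP_of_injective_algebraMap (algebraMap (ZMod p) E).injective p
  have h2 : (2 : ZMod p) ≠ 0 := fun h => hp (((Nat.prime_dvd_prime_iff_eq Fact.out Nat.prime_two).mp
    ((ZMod.natCast_eq_zero_iff 2 p).mp (by exact_mod_cast h))))
  -- Jordan products and products of commuting elements
  have hjor : ∀ x ∈ F, ∀ y ∈ F, x * y + y * x ∈ F := fun x hx y hy => by
    have := F.sub_mem (F.sub_mem (hsq _ (F.add_mem hx hy)) (hsq x hx)) (hsq y hy)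
    convert this using 1
    noncomm_ring
  have hmul : ∀ x ∈ F, ∀ y ∈ F, x * y = y * x → x * y ∈ F := fun x hx y hy hxy => by
    have := F.smul_mem (2⁻¹ : ZMod p) (hjor x hx y hy)
    rwa [← hxy, ← two_smul (ZMod p), smul_smul, inv_mul_cancel₀ h2, one_smul] at this
  set s := u - v with hs
  set t := u + v with ht
  have hsF : s ∈ F := F.sub_mem huF hvF
  have htF : t ∈ F := F.add_mem huF hvF
  by_contra hne
  push Not at hne
  have hs0 : s ≠ 0 := fun h => hne.1 (sub_eq_zero.mp h)
  have ht0 : t ≠ 0 := fun h => hne.2 (eq_neg_of_add_eq_zero_left h)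
  have hst : s * t + t * s = 0 := by
    rw [hs, ht]
    calc (u - v) * (u + v) + (u + v) * (u - v) = 2 * (u * u - v * v) := by noncomm_ring
      _ = 0 := by rw [h, sub_self, mul_zero]
  clear_value s t
  have hst' : t * s = -(s * t) := eq_neg_of_add_eq_zero_right hst
  -- the commutative algebra of the squares
  set K := Algebra.adjoin (ZMod p) ({s * s, t * t} : Set E) with hK
  have hcomm : ∀ x ∈ ({s * s, t * t} : Set E), Commute x s ∧ Commute x t := by
    rintro x (rfl | rfl)
    · refine ⟨(Commute.refl s).mul_left (Commute.refl s), ?_⟩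
      show s * s * t = t * (s * s)
      rw [← mul_assoc t s s, hst', neg_mul, mul_assoc s t s, hst', mul_neg, neg_neg, mul_assoc]
    · refine ⟨?_, (Commute.refl t).mul_left (Commute.refl t)⟩
      show t * t * s = s * (t * t)
      rw [mul_assoc t t s, hst', mul_neg, ← mul_assoc t s t, hst', neg_mul, neg_neg, mul_assoc]
  have hKc : ∀ k ∈ K, Commute k s ∧ Commute k t ∧
      (k ∈ F ∧ ∀ x ∈ ({s * s, t * t} : Set E), Commute k x) := by
    intro k hk
    have hcs : ∀ y ∈ K, Commute y s ∧ Commute y t := fun y hy => by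
      induction hy using Algebra.adjoin_induction with
      | mem y hy => exact hcomm y hy
      | algebraMap r => exact ⟨Algebra.commutes r s, Algebra.commutes r t⟩
      | add y z _ _ hy hz => exact ⟨hy.1.add_left hz.1, hy.2.add_left hz.2⟩
      | mul y z _ _ hy hz => exact ⟨hy.1.mul_left hz.1, hy.2.mul_left hz.2⟩
    have hx : ∀ y ∈ K, ∀ x ∈ ({s * s, t * t} : Set E), Commute y x := by
      rintro y hy x (rfl | rfl)
      · exact (hcs y hy).1.mul_right (hcs y hy).1
      · exact (hcs y hy).2.mul_right (hcs y hy).2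
    have hyz : ∀ y ∈ K, ∀ z ∈ K, Commute y z := fun y hy z hz => by
      induction hz using Algebra.adjoin_induction with
      | mem z hz => exact hx y hy z hz
      | algebraMap r => exact (Algebra.commutes r y).symm
      | add z w _ _ h1 h2 => exact h1.add_right h2
      | mul z w _ _ h1 h2 => exact h1.mul_right h2
    have hF : ∀ y ∈ K, y ∈ F := fun y hy => by
      induction hy using Algebra.adjoin_induction with
      | mem y hy =>
        rcases hy with rfl | rfl
        · exact hsq s hsF
        · exact hsq t htF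
      | algebraMap r =>
        rw [Algebra.algebraMap_eq_smul_one]
        exact F.smul_mem r h1
      | add y z _ _ hy hz => exact F.add_mem hy hz
      | mul y z hy' hz' hy hz => exact hmul y hy z hz (hyz y hy' z hz').eq
    exact ⟨(hcs k hk).1, (hcs k hk).2, hF k hk, hx k hk⟩
  letI : CommRing K :=
    Algebra.adjoinCommRingOfComm (R := ZMod p) fun x hx y hy => by
      rcases hy with rfl | rfl
      · exact ((hcomm x hx).1.mul_right (hcomm x hx).1).eq
      · exact ((hcomm x hx).2.mul_right (hcomm x hx).2).eq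
  haveI : IsDomain K := by
    haveI : Nontrivial K := inferInstance
    haveI : NoZeroDivisors K := ⟨fun {x y} hxy => by
      by_contra hne
      push Not at hne
      have hx := hu x (hKc x x.2).2.2.1 fun h => hne.1 (Subtype.ext h)
      exact hne.2 (Subtype.ext (hx.mul_right_eq_zero.mp (congrArg Subtype.val hxy)))⟩
    exact NoZeroDivisors.to_isDomain K
  letI : Field K := (Finite.isField_of_domain K).toField
  haveI : Fintype K := Fintype.ofFinite K
  have hodd : Fintype.card K % 2 = 1 := FiniteField.odd_card_of_char_ne_two fun hc => by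
    haveI : CharP K p := charP_of_injective_algebraMap (algebraMap (ZMod p) K).injective p
    exact hp ((CharP.eq K (ringChar.charP K) ‹CharP K p›).symm.trans hc)
  set l : K := ⟨s * s, Algebra.subset_adjoin (Or.inl rfl)⟩
  set m : K := ⟨t * t, Algebra.subset_adjoin (Or.inr rfl)⟩
  have hl : l ≠ 0 := fun h =>
    ((hu s hsF hs0).mul (hu s hsF hs0)).ne_zero (congrArg Subtype.val h)
  have hm : m ≠ 0 := fun h =>
    ((hu t htF ht0).mul (hu t htF ht0)).ne_zero (congrArg Subtype.val h)
  obtain ⟨β, γ, hβγ⟩ : ∃ β γ : K, l * β ^ 2 + (m * γ ^ 2 - 1) = 0 := by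
    obtain ⟨β, γ, h⟩ := FiniteField.exists_root_sum_quadratic
      (f := Polynomial.C l * Polynomial.X ^ 2)
      (g := Polynomial.C m * Polynomial.X ^ 2 - 1)
      (by rw [Polynomial.degree_C_mul_X_pow 2 hl]; rfl)
      (by rw [Polynomial.degree_sub_eq_left_of_degree_lt] <;>
            simp [Polynomial.degree_C_mul_X_pow, hm]) hodd
    exact ⟨β, γ, by simpa using h⟩
  obtain ⟨cβs, cβt, cβF, -⟩ := hKc β β.2
  obtain ⟨cγs, cγt, cγF, cγx⟩ := hKc γ γ.2
  have hcβγ : Commute (β : E) (γ : E) := congrArg Subtype.val (mul_comm β γ)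
  have hval : (s * s) * ((β : E) * β) + ((t * t) * ((γ : E) * γ) - 1) = 0 := by
    have := congrArg Subtype.val hβγ
    simpa [pow_two, l, m] using this
  set w := (β : E) * s + (γ : E) * t with hwdef
  have hwF : w ∈ F := F.add_mem (hmul _ cβF _ hsF cβs) (hmul _ cγF _ htF cγt)
  have hw : w * w = 1 := by
    have e1 : (β : E) * s * ((β : E) * s) = s * s * ((β : E) * β) := by
      calc (β : E) * s * ((β : E) * s) = (β : E) * (s * β) * s := by noncomm_ring
        _ = (β : E) * β * (s * s) := by rw [← cβs.eq]; noncomm_ring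
        _ = _ := ((cβs.mul_left cβs).mul_right (cβs.mul_left cβs)).eq
    have e2 : (γ : E) * t * ((γ : E) * t) = t * t * ((γ : E) * γ) := by
      calc (γ : E) * t * ((γ : E) * t) = (γ : E) * (t * γ) * t := by noncomm_ring
        _ = (γ : E) * γ * (t * t) := by rw [← cγt.eq]; noncomm_ring
        _ = _ := ((cγt.mul_left cγt).mul_right (cγt.mul_left cγt)).eq
    have e3 : (β : E) * s * ((γ : E) * t) + (γ : E) * t * ((β : E) * s) = 0 := by
      calc (β : E) * s * ((γ : E) * t) + (γ : E) * t * ((β : E) * s)
          = (β : E) * (s * γ) * t + (γ : E) * (t * β) * s := by noncomm_ring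
        _ = (β : E) * γ * (s * t) + (γ : E) * β * (t * s) := by
          rw [← cγs.eq, ← cβt.eq]; noncomm_ring
        _ = 0 := by rw [← hcβγ.eq, ← mul_add, hst, mul_zero]
    rw [hwdef, add_mul, mul_add, mul_add, e1, e2]
    calc _ = (s * s * ((β : E) * β) + (t * t * ((γ : E) * γ) - 1)) + 1 +
          ((β : E) * s * ((γ : E) * t) + (γ : E) * t * ((β : E) * s)) := by abel
      _ = 1 := by rw [hval, e3]; abel
  have hw1 : w = 1 ∨ w = -1 := by
    rcases eq_or_ne (w - 1) 0 with h0 | h0
    · exact Or.inl (sub_eq_zero.mp h0)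
    · refine Or.inr (eq_neg_of_add_eq_zero_left ((hu _ (F.sub_mem hwF h1) h0).mul_right_eq_zero.mp ?_))
      rw [show (w - 1) * (w + 1) = w * w - 1 by noncomm_ring, hw, sub_self]
  have hws : Commute w s ∧ Commute w t := by
    rcases hw1 with h | h <;> rw [h] <;>
      exact ⟨by simp [Commute, SemiconjBy], by simp [Commute, SemiconjBy]⟩
  have two_ne : ∀ x : E, IsUnit x → x + x ≠ 0 := fun x hx h => by
    rw [← two_smul (ZMod p)] at h
    have := congrArg ((2⁻¹ : ZMod p) • ·) h
    simp only [smul_smul, inv_mul_cancel₀ h2, one_smul, smul_zero] at this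
    exact hx.ne_zero this
  have hts : IsUnit (t * s) := (hu t htF ht0).mul (hu s hsF hs0)
  -- commuting with s forces γ = 0
  have hγ : (γ : E) = 0 := by
    have h0 : (γ : E) * (t * s + t * s) = 0 := by
      calc (γ : E) * (t * s + t * s) = (γ : E) * (t * s - s * t) := by
            rw [sub_eq_add_neg, ← hst']
        _ = ((γ : E) * t * s + (β : E) * s * s) - ((γ : E) * s * t + (β : E) * s * s) := by
            noncomm_ring
        _ = w * s - s * w := by
            rw [hwdef, mul_add, ← mul_assoc s (γ : E), ← cγs.eq, ← mul_assoc s (β : E), ← cβs.eq]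
            noncomm_ring
        _ = 0 := sub_eq_zero.mpr hws.1.eq
    by_contra hne
    exact two_ne _ hts ((hu _ cγF hne).mul_right_eq_zero.mp h0)
  have hβ : (β : E) = 0 := by
    have h0 : (β : E) * (t * s + t * s) = 0 := by
      calc (β : E) * (t * s + t * s) = (β : E) * (t * s - s * t) := by
            rw [sub_eq_add_neg, ← hst']
        _ = t * w - w * t := by
            rw [hwdef, mul_add, ← mul_assoc t (γ : E), ← cγt.eq, ← mul_assoc t (β : E), ← cβt.eq]
            noncomm_ring
        _ = 0 := sub_eq_zero.mpr hws.2.eq.symm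
    by_contra hne
    exact two_ne _ hts ((hu _ cβF hne).mul_right_eq_zero.mp h0)
  rw [hwdef, hβ, hγ, zero_mul, zero_mul, add_zero, zero_mul] at hw
  exact zero_ne_one hw

end Cfsg.Agent.FlavellPSL
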