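import Cfsg.Agent.FlavellPSL.Reduce
import Cfsg.Agent.Fusion.ZJConstrained
import Cfsg.Agent.Coprime.Action

/-!
# Factorisation with a coprime group of automorphisms without PSL₂(p) in the fixed points
-/

set_option autoImplicit false

namespace Cfsg.Agent.FlavellPSL

open Cfsg Subgroup
open Cfsg.Agent.Coprime (inA inG)
open SemidirectProduct (inl inr inl_injective)

variable {p : ℕ} [Fact p.Prime] {F : Type*} [Field F] [Fintype F]

/-- A coprime action has an invariant Sylow subgroup by parity. -/
theorem solvable_or_of_coprime {A H : Type*} [Group A] [Group H] [Finite A] [Finite H]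
    (h : (Nat.card A).Coprime (Nat.card H)) : Group.IsSolvable A ∨ Group.IsSolvable H := by
  rcases Nat.even_or_odd (Nat.card A) with ha | ha
  · refine Or.inr (Cfsg.Agent.S0205.result ?_)
    have h' := h.coprime_dvd_left (even_iff_two_dvd.mp ha)
    rw [Nat.coprime_two_left] at h'
    exact h'
  · exact Or.inl (Cfsg.Agent.S0205.result ha)

/-- The ZJ-theorem with a coprime group of operators. -/
theorem normal_zInter_act (hp5 : 5 ≤ p) (hF : Fintype.card F = p) {H A : Type*} [Group H] [Finite H]
    [Group A] [Finite A] (φ : A →* MulAut H) (hcop : (Nat.card A).Coprime (Nat.card H))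
    (hfree : ¬ Cfsg.Involves (Matrix.ProjectiveSpecialLinearGroup (Fin 2) F) ↥(Coprime.fixedSubgroup φ))
    (hc : centralizer (pCore p H : Set H) ≤ pCore p H) (S : Sylow p H) :
    (Fusion.zInter 0 (S : Subgroup H)).Normal := by
  haveI := Coprime.finite_semidirect φ
  haveI := Coprime.inG_normal φ
  have hfree' : ¬ Cfsg.Involves (Matrix.ProjectiveSpecialLinearGroup (Fin 2) F)
      ↥(inG φ ⊓ centralizer (inA φ : Set (H ⋊[φ] A))) := fun h => hfree (by
    rw [← Coprime.map_inl_fixedSubgroup] at h
    exact FusSys.involves_of_injective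
      (θ := ((Coprime.fixedSubgroup φ).equivMapOfInjective inl (inl_injective (φ := φ))).symm.toMonoidHom)
      (MulEquiv.injective _) h)
  obtain ⟨P, hP⟩ := Coprime.exists_invariant_sylow_act φ hcop (solvable_or_of_coprime hcop) p
  have hPmap : ∀ a, (P : Subgroup H).map (φ a).toMonoidHom = P := fun a => by
    refine le_antisymm (map_le_iff_le_comap.mpr fun x hx => hP a x hx) fun x hx => ?_
    exact ⟨φ a⁻¹ x, hP a⁻¹ x hx, by
      rw [map_inv]; exact MulAut.apply_inv_self _ _ _⟩
  set W := Fusion.zInter 0 (P : Subgroup H) with hW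
  have hWmap : ∀ a, W.map (φ a).toMonoidHom = W := fun a => by
    rw [hW, Fusion.zInter_map (f := (φ a).toMonoidHom) (φ a).injective, hPmap a]
  let Φ : Subgroup H → Prop := fun B => B.Normal ∧ ∀ a, B.map (φ a).toMonoidHom = B
  have hΦn : ∀ B, Φ B → (B.map (inl : H →* H ⋊[φ] A)).Normal := by
    rintro B ⟨hB, hBa⟩
    refine ⟨fun z hz y => ?_⟩
    obtain ⟨b, hb, rfl⟩ := hz
    rw [← SemidirectProduct.inl_left_mul_inr_right y, mul_inv_rev,
      show inl y.left * inr y.right * inl b * ((inr y.right)⁻¹ * (inl y.left)⁻¹) =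
        inl y.left * (inr y.right * inl b * (inr y.right)⁻¹) * (inl y.left)⁻¹ by group,
      Coprime.inr_conj_inl, ← map_inv, ← map_mul, ← map_mul]
    exact mem_map_of_mem _ (hB.conj_mem _ (hBa y.right ▸ mem_map_of_mem _ hb) _)
  have hst : StableOn p P Φ := fun B hB hBp hΦ a ha hq =>
    stableOn_free (A := inA φ) hp5 hF (Coprime.coprime_inA_inG φ hcop) hfree'
      (ι := (inl : H →* H ⋊[φ] A)) inl_injective le_rfl P B hB hBp (hΦn B hΦ) a ha hq
  have hnW : W.Normal := by
    refine normal_zInter_of (by omega) (Or.inl rfl) Φ ?_ ?_ hst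
      ⟨inferInstance, fun a => Core.map_pCore (φ a)⟩ (Fusion.isStronglyClosed_self P) hc
    · rintro B hB ⟨-, hBa⟩
      refine ⟨inferInstance, fun a => ?_⟩
      rw [map_normalClosure _ _ (φ a).surjective, ← coe_map, map_inf _ _ _ (φ a).injective, hBa a]
      exact congrArg _ (congrArg (fun X : Subgroup H => ((B ⊓ X : Subgroup H) : Set H)) (hWmap a))
    · rintro B hB ⟨-, hBa⟩
      exact ⟨inferInstance, fun a => by rw [map_commutator, hBa a]⟩
  obtain ⟨g, hg⟩ := MulAction.exists_smul_eq H P S
  have e : (S : Subgroup H) = (P : Subgroup H).map (MulAut.conj g).toMonoidHom := by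
    rw [← hg]; rfl
  rw [e, ← Fusion.zInter_map (f := (MulAut.conj g).toMonoidHom) (MulAut.conj g).injective]
  exact hnW.map _ (MulAut.conj g).surjective

/-- An automorphism group of G acts on the quotient by the p'-core. -/
def quotAct {G : Type*} [Group G] [Finite G] (p : ℕ) (A : Subgroup (MulAut G)) :
    A →* MulAut (G ⧸ pPrimeCore p G) where
  toFun a := QuotientGroup.congr _ _ (a : MulAut G) (Core.map_pPrimeCore _)
  map_one' := MulEquiv.ext fun x => QuotientGroup.induction_on x fun _ => rfl
  map_mul' _ _ := MulEquiv.ext fun x => QuotientGroup.induction_on x fun _ => rfl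

/-- The factorisation. -/
theorem sup_normalizer_eq_top (hp5 : 5 ≤ p) (hF : Fintype.card F = p) {G : Type*} [Group G]
    [Finite G] (hG : Cfsg.IsPConstrained p G) (A : Subgroup (MulAut G))
    (hA : (Nat.card A).Coprime (Nat.card G)) (C : Subgroup G)
    (hC : ∀ g : G, g ∈ C ↔ ∀ a ∈ A, a g = g)
    (hfix : ¬ Cfsg.Involves (Matrix.ProjectiveSpecialLinearGroup (Fin 2) F) ↥C)
    (S : Sylow p G) :
    pPrimeCore p G ⊔ normalizer (Fusion.zInter 0 (S : Subgroup G) : Set G) = ⊤ := by
  haveI : Finite (MulAut G) := Finite.of_injective (fun e : MulAut G => (e : G → G))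
    DFunLike.coe_injective
  set N := pPrimeCore p G with hN
  set f := QuotientGroup.mk' N with hf
  have hfs : Function.Surjective f := QuotientGroup.mk'_surjective N
  have hker : f.ker = N := QuotientGroup.ker_mk' N
  set φ := quotAct p A
  have hcop : (Nat.card A).Coprime (Nat.card (G ⧸ N)) :=
    hA.coprime_dvd_right (card_quotient_dvd_card N)
  have hfree : ¬ Cfsg.Involves (Matrix.ProjectiveSpecialLinearGroup (Fin 2) F)
      ↥(Coprime.fixedSubgroup φ) := fun h => hfix (by
    let r : C →* Coprime.fixedSubgroup φ := (f.comp C.subtype).codRestrict _ fun c a => by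
      show f ((a : MulAut G) c) = f c
      rw [(hC c).mp c.2 (a : MulAut G) (SetLike.coe_mem a)]
    refine FusSys.involves_of_surjective (f := r) ?_ h
    rintro ⟨x, hx⟩
    obtain ⟨k, rfl⟩ := hfs x
    haveI := Coprime.finite_semidirect A.subtype
    have hN₀ : inA A.subtype ≤ normalizer
        ((N.map inl : Subgroup (G ⋊[A.subtype] A)) : Set (G ⋊[A.subtype] A)) :=
      (Coprime.inA_le_normalizer_map_iff A.subtype).mpr fun a y hy => by
        have h := mem_map_of_mem (a : MulAut G).toMonoidHom hy
        rwa [hN, Core.map_pPrimeCore] at h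
    have hc : Nat.card (N.map (inl : G →* G ⋊[A.subtype] A)) = Nat.card N :=
      card_map_of_injective inl_injective
    have hA' : Nat.card (inA A.subtype) = Nat.card A := Coprime.card_inA A.subtype
    have hcop' : (Nat.card (inA A.subtype)).Coprime (Nat.card (N.map (inl : G →* G ⋊[A.subtype] A))) := by
      rw [hc, hA']
      exact hA.coprime_dvd_right (card_subgroup_dvd_card N)
    obtain ⟨_, ⟨n, hn, rfl⟩, hn'⟩ := Coprime.exists_fixed_mem_leftCoset hN₀ hcop'
      (solvable_or_of_coprime hcop') (k := inl k) (by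
        rintro _ ⟨a, rfl⟩
        rw [Coprime.inr_conj_inl, ← map_inv, ← map_mul]
        refine mem_map_of_mem _ ?_
        rw [← hker, MonoidHom.mem_ker, map_mul, map_inv, inv_mul_eq_one]
        exact (hx a).symm)
    rw [← map_mul, Coprime.inl_mem_centralizer] at hn'
    refine ⟨⟨k * n, (hC _).mpr fun a ha => hn' ⟨a, ha⟩⟩, Subtype.ext ?_⟩
    show f (k * n) = f k
    rw [map_mul, MonoidHom.mem_ker.mp (show n ∈ f.ker from hker.symm ▸ hn), mul_one])
  have hnZ := normal_zInter_act hp5 hF φ hcop hfree
    (Layer.isPConstrained_iff_selfCentral.mp hG) (S.mapSurjective hfs)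
  rw [Sylow.coe_mapSurjective, ← Fusion.zInter_map_of_inf_ker f
    (by rw [hker]; exact OddLocal.inf_pPrimeCore_eq_bot S.2)] at hnZ
  have h2 := Layer.map_normalizer_of_coprime hfs (by rw [hker]; exact Core.coprime_card_pPrimeCore)
    (S.2.to_le (Fusion.zInter_le 0 (S : Subgroup G)))
  rw [normalizer_eq_top_iff.mpr hnZ] at h2
  have := congrArg (comap f) h2
  rwa [comap_map_eq, hker, comap_top, sup_comm] at this

end Cfsg.Agent.FlavellPSL
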