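import Cfsg.Agent.FlavellQuad.Canon
import Cfsg.Agent.FlavellPSL.Jordan

/-!
# Squaring on a root space
-/

set_option autoImplicit false

namespace Cfsg.Agent.FlavellPSL

open Cfsg
open Cfsg.Agent.RootSub Cfsg.Agent.RootSub.Quad Cfsg.Agent.FlavellQuad

variable {p : ℕ} [Fact p.Prime] {M : Type*} [AddCommGroup M] [Module (ZMod p) M]

local notation "𝔾" => LinearMap.GeneralLinearGroup (ZMod p) M
local notation "𝔼" => Module.End (ZMod p) M

variable {G : Subgroup (LinearMap.GeneralLinearGroup (ZMod p) M)}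
variable [FiniteDimensional (ZMod p) M]


/-- x, y are a pair of partners in the root spaces of a and b. -/
structure Partner {q : ℕ} [Fact q.Prime] {V : Type*} [AddCommGroup V] [Module (ZMod q) V]
    (H : Subgroup (LinearMap.GeneralLinearGroup (ZMod q) V))
    (c d x y : Module.End (ZMod q) V) : Prop where
  left : x ∈ rootSpace H c
  right : y ∈ rootSpace H d
  ne : x ≠ 0
  eq : x * y * x = x
  eq' : y * x * y = y

variable (hp : 5 ≤ p) {a b : Module.End (ZMod p) M} (ha : IsMin G a) (hb : IsMin G b) (hab : IsOpp a b)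

include hp ha hb hab in
theorem exists_partner' {x : 𝔼} (hx : x ∈ rootSpace G a) (hx0 : x ≠ 0) :
    ∃ y, Partner G a b x y := by
  obtain ⟨y, hy, -, h1, h2⟩ :=
    exists_partner (two_ne hp) (card_ne_three hp) ha hb hab hx hx0
  exact ⟨y, hx, hy, hx0, h1, h2⟩

include ha in
/-- x y is the identity on the root space of a from the left. -/
theorem Partner.fix_left {x y : 𝔼} (h : Partner G a b x y) {z : 𝔼} (hz : z ∈ rootSpace G a) :
    x * y * z = z := by
  refine LinearMap.ext fun m => ?_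
  obtain ⟨n, hn⟩ : z m ∈ LinearMap.range x := by
    rw [ha.range_eq h.left h.ne]; exact hz.1 ⟨m, rfl⟩
  rw [Module.End.mul_apply, ← hn, ← Module.End.mul_apply, h.eq]

include ha in
theorem Partner.fix_right {x y : 𝔼} (h : Partner G a b x y) {z : 𝔼} (hz : z ∈ rootSpace G a) :
    z * y * x = z := by
  refine LinearMap.ext fun m => ?_
  have hm : m - y (x m) ∈ LinearMap.ker z := by
    refine ((mem_rootSpace ha.sq).mp hz).2.1 ?_
    rw [← ha.ker_eq h.left h.ne, LinearMap.mem_ker, map_sub]
    have := LinearMap.congr_fun h.eq m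
    simp only [Module.End.mul_apply] at this
    rw [this, sub_self]
  rw [LinearMap.mem_ker, map_sub, sub_eq_zero] at hm
  simp only [Module.End.mul_apply]
  exact hm.symm

include ha in
theorem Partner.unique {x y y' : 𝔼} (hb : IsMin G b) (h : Partner G a b x y)
    (h' : Partner G a b x y') : y = y' := by
  have hs : Partner G b a y x :=
    ⟨h.right, h.left, fun h0 => h.ne (by rw [← h.eq, h0, mul_zero, zero_mul]), h.eq', h.eq⟩
  symm
  calc y' = y * x * y' := (hs.fix_left hb h'.right).symm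
    _ = y * x * (y' * x * y) := by rw [hs.fix_right hb h'.right]
    _ = y * (x * y' * x) * y := by simp only [mul_assoc]
    _ = y := by rw [h'.eq, h.eq']

/-- The Weyl element of a pair. -/
def weyl {x y : 𝔼} (hx : x * x = 0) (hy : y * y = 0) : 𝔾 :=
  oneAddUnit x hx * (oneAddUnit y hy)⁻¹ * oneAddUnit x hx

omit [FiniteDimensional (ZMod p) M] in
theorem Partner.sq_left {x y : 𝔼} (h : Partner G a b x y) : x * x = 0 :=
  mul_eq_zero_of_mem h.left h.left

omit [FiniteDimensional (ZMod p) M] in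
theorem Partner.sq_right {x y : 𝔼} (h : Partner G a b x y) : y * y = 0 :=
  mul_eq_zero_of_mem h.right h.right

omit [FiniteDimensional (ZMod p) M] in
theorem Partner.weyl_mem {x y : 𝔼} (h : Partner G a b x y) :
    weyl h.sq_left h.sq_right ∈ G := by
  have hu := rootGroup_le (oneAddUnit_mem h.left h.sq_left)
  exact mul_mem (mul_mem hu (inv_mem (rootGroup_le (oneAddUnit_mem h.right h.sq_right)))) hu

include ha in
/-- The Weyl element sends z in the root space of a to -y z y. -/
theorem Partner.weyl_left {x y : 𝔼} (h : Partner G a b x y) {z : 𝔼} (hz : z ∈ rootSpace G a) :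
    conjEnd (weyl h.sq_left h.sq_right) z = -(y * z * y) := by
  have hxz : x * z = 0 := mul_eq_zero_of_mem h.left hz
  have hzx : z * x = 0 := mul_eq_zero_of_mem hz h.left
  have hy2 := h.sq_right
  have hf1 := h.fix_left ha hz
  have hf2 := h.fix_right ha hz
  have hyzy : y * z * y * x = y * z := by rw [mul_assoc y z, mul_assoc, mul_assoc z, ← mul_assoc z, hf2]
  rw [conjEnd, weyl]
  simp only [mul_inv_rev, inv_inv, Units.val_mul, coe_oneAddUnit, coe_oneAddUnit_inv, mul_assoc]
  have h1 : (1 - y) * ((1 + x) * z) = z - y * z := by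
    rw [add_mul, one_mul, hxz, add_zero, sub_mul, one_mul]
  have h2 : (1 + x) * (z - y * z) = -(y * z) := by
    rw [add_mul, one_mul, mul_sub, hxz, ← mul_assoc x y z, hf1]; abel
  calc (1 + x) * ((1 - y) * ((1 + x) * (z * ((1 - x) * ((1 + y) * (1 - x))))))
      = ((1 + x) * ((1 - y) * ((1 + x) * z))) * ((1 - x) * ((1 + y) * (1 - x))) := by
        simp only [mul_assoc]
    _ = -(y * z) * ((1 - x) * ((1 + y) * (1 - x))) := by rw [h1, h2]
    _ = -(y * z - y * (z * x) + y * z * y - y * (z * x) * y - y * z * x + y * (z * x) * x -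
          y * z * y * x + y * (z * x) * y * x) := by noncomm_ring
    _ = -(y * z * y) := by
        rw [hzx, mul_assoc y z x, hzx, hyzy]; simp

include hb in
/-- The Weyl element sends w in the root space of b to -x w x. -/
theorem Partner.weyl_right {x y : 𝔼} (h : Partner G a b x y) {w : 𝔼} (hw : w ∈ rootSpace G b) :
    conjEnd (weyl h.sq_left h.sq_right) w = -(x * w * x) := by
  have hyw : y * w = 0 := mul_eq_zero_of_mem h.right hw
  have hwy : w * y = 0 := mul_eq_zero_of_mem hw h.right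
  have hx2 := h.sq_left
  have hs : Partner G b a y x :=
    ⟨h.right, h.left, fun h0 => h.ne (by rw [← h.eq, h0, mul_zero, zero_mul]), h.eq', h.eq⟩
  have hf1 := hs.fix_left hb hw
  have hf2 := hs.fix_right hb hw
  rw [conjEnd, weyl]
  simp only [mul_inv_rev, inv_inv, Units.val_mul, coe_oneAddUnit, coe_oneAddUnit_inv, mul_assoc]
  have hm : (1 + x) * ((1 - y) * ((1 + x) * w)) = x * w := by
    calc (1 + x) * ((1 - y) * ((1 + x) * w))
        = w + x * w + x * w + x * x * w - (y * w + y * x * w + x * (y * w) + x * (y * x * w)) := by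
          noncomm_ring
      _ = x * w := by rw [hx2, hyw, hf1]; simp
  calc (1 + x) * ((1 - y) * ((1 + x) * (w * ((1 - x) * ((1 + y) * (1 - x))))))
      = ((1 + x) * ((1 - y) * ((1 + x) * w))) * ((1 - x) * ((1 + y) * (1 - x))) := by
        simp only [mul_assoc]
    _ = x * w * ((1 - x) * ((1 + y) * (1 - x))) := by rw [hm]
    _ = x * w - x * w * x + x * (w * y) - x * (w * x * y) - x * w * x + x * w * (x * x) -
          x * (w * y) * x + x * (w * x * y) * x := by noncomm_ring
    _ = -(x * w * x) := by rw [hwy, hx2, hf2]; simp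

/-- The elements of G normalising the root group of a. -/
def rootNorm (G : Subgroup (LinearMap.GeneralLinearGroup (ZMod p) M))
    (a : Module.End (ZMod p) M) : Subgroup (LinearMap.GeneralLinearGroup (ZMod p) M) :=
  G ⊓ Subgroup.normalizer (rootGroup G a : Set (LinearMap.GeneralLinearGroup (ZMod p) M))

omit [FiniteDimensional (ZMod p) M] in
theorem rootNorm_mem_iff {g : 𝔾} :
    g ∈ rootNorm G a ↔ g ∈ G ∧ conjBy (rootGroup G a) g = rootGroup G a :=
  and_congr_right fun _ => conjBy_eq_self_iff.symm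

/-- The same orbit of the normaliser. -/
def Rel (G : Subgroup (LinearMap.GeneralLinearGroup (ZMod p) M))
    (a z w : Module.End (ZMod p) M) : Prop :=
  ∃ g ∈ rootNorm G a, conjEnd g z = w

omit [FiniteDimensional (ZMod p) M] in
theorem Rel.symm {z w : 𝔼} : Rel G a z w → Rel G a w z := by
  rintro ⟨g, hg, rfl⟩
  exact ⟨g⁻¹, inv_mem hg, by rw [conjEnd_conjEnd, inv_mul_cancel, conjEnd_one]⟩

omit [FiniteDimensional (ZMod p) M] in
theorem Rel.trans {z w v : 𝔼} : Rel G a z w → Rel G a w v → Rel G a z v := by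
  rintro ⟨g, hg, rfl⟩ ⟨k, hk, rfl⟩
  exact ⟨k * g, mul_mem hk hg, (conjEnd_conjEnd _ _).symm⟩

include ha hb in
/-- The elements x y x all lie in the orbit of the partner of y. -/
theorem rel_sandwich {x y' z y : 𝔼} (hx : Partner G a b x y') (hz : Partner G a b z y) :
    x * y * x ∈ rootSpace G a ∧ x * y * x ≠ 0 ∧ Rel G a z (x * y * x) := by
  set g := weyl hx.sq_left hx.sq_right * weyl hz.sq_left hz.sq_right with hgdef
  have hg : g ∈ G := mul_mem hx.weyl_mem hz.weyl_mem
  have hgz : conjEnd g z = x * y * x := by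
    rw [hgdef, ← conjEnd_conjEnd, hz.weyl_left ha hz.left, hz.eq',
      show conjEnd (weyl hx.sq_left hx.sq_right) (-y) = -conjEnd (weyl hx.sq_left hx.sq_right) y by
        simp [conjEnd],
      hx.weyl_right hb hz.right, neg_neg]
  have hm : IsMin G (x * y * x) := hgz ▸ (ha.isMin_of_mem hz.left hz.ne).conj hg
  have hmem : x * y * x ∈ rootSpace G a := by
    refine (mem_rootSpace ha.sq).mpr ⟨?_, ?_, fun t => hm.inG t⟩
    · rw [← ha.range_eq hx.left hx.ne, mul_assoc, Module.End.mul_eq_comp]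
      exact LinearMap.range_comp_le_range _ _
    · rw [← ha.ker_eq hx.left hx.ne, Module.End.mul_eq_comp]
      exact LinearMap.ker_le_ker_comp _ _
  refine ⟨hmem, hm.ne_zero, g, rootNorm_mem_iff.mpr ⟨hg, ?_⟩, hgz⟩
  rw [← rootGroup_congr (ha.rootSpace_eq hz.left hz.ne), conjBy_rootGroup hg, hgz,
    rootGroup_congr (ha.rootSpace_eq hmem hm.ne_zero),
    rootGroup_congr (ha.rootSpace_eq hz.left hz.ne)]

include hp ha hb hab in
/-- The map to x y x is at most two to one. -/
theorem sandwich_inj {z y : 𝔼} (hz : Partner G a b z y) {x x' : 𝔼} (hx : x ∈ rootSpace G a)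
    (hx' : x' ∈ rootSpace G a) (h : x * y * x = x' * y * x') : x = x' ∨ x = -x' := by
  haveI : Finite M := Module.finite_of_finite (ZMod p)
  set R := LinearMap.range a
  have hR : ∀ w ∈ rootSpace G a, ∀ m, (w * y) m ∈ R := fun w hw m => hw.1 ⟨y m, rfl⟩
  let ρ : rootSpace G a →ₗ[ZMod p] Module.End (ZMod p) R :=
    { toFun := fun w => ((w : 𝔼) * y).restrict fun m _ => hR w w.2 m
      map_add' := fun v w => LinearMap.ext fun m => Subtype.ext (by simp [add_mul])
      map_smul' := fun c w => LinearMap.ext fun m => Subtype.ext (by simp) }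
  have hρ : ∀ (w : rootSpace G a) (m : R), ((ρ w m : R) : M) = ((w : 𝔼) * y) m := fun _ _ => rfl
  haveI : Nontrivial R := by
    rw [Submodule.nontrivial_iff_ne_bot, Ne, LinearMap.range_eq_bot]
    exact ha.ne_zero
  haveI : Finite (Module.End (ZMod p) R) :=
    Finite.of_injective (fun f : Module.End (ZMod p) R => ⇑f) DFunLike.coe_injective
  have hone : ρ ⟨z, hz.left⟩ = 1 := LinearMap.ext fun m => Subtype.ext (by
    obtain ⟨n, hn⟩ : (m : M) ∈ LinearMap.range z := by rw [ha.range_eq hz.left hz.ne]; exact m.2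
    rw [hρ, Module.End.one_apply, ← hn, ← Module.End.mul_apply, hz.eq])
  have hsq : ∀ u ∈ LinearMap.range ρ, u * u ∈ LinearMap.range ρ := by
    rintro _ ⟨⟨w, hw⟩, rfl⟩
    rcases eq_or_ne w 0 with rfl | hw0
    · exact ⟨0, by rw [map_zero, show (⟨(0 : 𝔼), hw⟩ : rootSpace G a) = 0 from rfl, map_zero, mul_zero]⟩
    obtain ⟨w', hw'⟩ := exists_partner' hp ha hb hab hw hw0
    refine ⟨⟨w * y * w, (rel_sandwich ha hb hw' hz).1⟩, LinearMap.ext fun m => Subtype.ext ?_⟩
    rw [hρ, Module.End.mul_apply (ρ ⟨w, hw⟩), hρ, hρ]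
    simp only [Module.End.mul_apply]
  have hunit : ∀ u ∈ LinearMap.range ρ, u ≠ 0 → IsUnit u := by
    rintro _ ⟨⟨w, hw⟩, rfl⟩ h0
    have hw0 : w ≠ 0 := fun h => h0 (by rw [show (⟨w, hw⟩ : rootSpace G a) = 0 from Subtype.ext h, map_zero])
    obtain ⟨w', hw'⟩ := exists_partner' hp ha hb hab hw hw0
    refine LinearMap.isUnit_iff_ker_eq_bot _ |>.mpr ?_
    rw [LinearMap.ker_eq_bot']
    intro m hm
    have hm' : (w * y) (m : M) = 0 := by
      rw [← hρ ⟨w, hw⟩ m, hm]; rfl
    obtain ⟨n, hn⟩ : (m : M) ∈ LinearMap.range z := by rw [ha.range_eq hz.left hz.ne]; exact m.2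
    have hs : Partner G b a w' w :=
      ⟨hw'.right, hw'.left, fun h1 => hw'.ne (by rw [← hw'.eq, h1, mul_zero, zero_mul]), hw'.eq',
        hw'.eq⟩
    refine Subtype.ext ?_
    have e1 : (z * w' * (w * y)) (m : M) = (m : M) := by
      rw [mul_assoc z w', ← mul_assoc w' w y, hs.fix_left hb hz.right, ← hn,
        ← Module.End.mul_apply, hz.eq]
    rw [Module.End.mul_apply, hm', map_zero] at e1
    exact e1.symm
  have key := sq_eq_sq (p := p) (by omega) (LinearMap.range ρ) ⟨_, hone⟩ hsq hunit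
    (u := ρ ⟨x, hx⟩) (v := ρ ⟨x', hx'⟩) ⟨_, rfl⟩ ⟨_, rfl⟩
    (LinearMap.ext fun m => Subtype.ext (by
      have e := LinearMap.congr_fun h (y (m : M))
      rw [Module.End.mul_apply (ρ ⟨x, hx⟩), Module.End.mul_apply (ρ ⟨x', hx'⟩), hρ, hρ, hρ, hρ]
      simp only [Module.End.mul_apply] at e ⊢
      exact e))
  have back : ∀ w w' : rootSpace G a, ρ w = ρ w' → (w : 𝔼) = (w' : 𝔼) := fun w w' hww => by
    rw [← hz.fix_right ha w.2, ← hz.fix_right ha w'.2]
    refine LinearMap.ext fun m => ?_
    have hzm : z m ∈ R := hz.left.1 ⟨m, rfl⟩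
    have e1 := congrArg (fun f => ((f ⟨z m, hzm⟩ : R) : M)) hww
    simp only [hρ, Module.End.mul_apply] at e1 ⊢
    exact e1
  rcases key with key | key
  · exact Or.inl (back _ _ key)
  · refine Or.inr (back ⟨x, hx⟩ ⟨-x', neg_mem hx'⟩ ?_)
    rw [key, show (⟨-x', neg_mem hx'⟩ : rootSpace G a) = -⟨x', hx'⟩ from rfl, map_neg]

end Cfsg.Agent.FlavellPSL
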