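import Cfsg.Agent.FlavellPSL.Hom
import Cfsg.Agent.FlavellPSL.ZJ
import Cfsg.Agent.FlavellQuad.Reduce
import Cfsg.Agent.Classical.SmallPSL
import Cfsg.Agent.FusSys.FactorFree

/-!
# p-stability on invariant normal subgroups when the fixed points have no section PSL₂(p)
-/

set_option autoImplicit false

namespace Cfsg.Agent.FlavellPSL

open Cfsg Subgroup
open Cfsg.Agent.RootSub Cfsg.Agent.RootSub.Quad Cfsg.Agent.FlavellQuad
open scoped commutatorElement MatrixGroups

/-- A surjection from a subgroup is an involved group. -/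
theorem involves_of_hom {L H : Type*} [Group L] [Group H] {K : Subgroup L} (f : K →* H)
    (hf : Function.Surjective f) : Cfsg.Involves H L := by
  have hk : f.ker = (f.ker.map K.subtype).subgroupOf K :=
    (comap_map_eq_self_of_injective K.subtype_injective f.ker).symm
  haveI : ((f.ker.map K.subtype).subgroupOf K).Normal := hk ▸ f.normal_ker
  exact ⟨K, f.ker.map K.subtype, inferInstance,
    ⟨(QuotientGroup.quotientMulEquivOfEq hk.symm).trans
      (QuotientGroup.quotientKerEquivOfSurjective f hf)⟩⟩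

/-- A non-trivial image of SL₂(p) maps onto PSL₂(p). -/
theorem exists_hom_psl {p : ℕ} [hp : Fact p.Prime] (h5 : 5 ≤ p) {F : Type*} [Field F] [Fintype F]
    (hF : Fintype.card F = p) {H : Type*} [Group H] (Ψ : SL(2, ZMod p) →* H) (hΨ : Ψ ≠ 1) :
    ∃ f : Ψ.range →* Matrix.ProjectiveSpecialLinearGroup (Fin 2) F, Function.Surjective f := by
  classical
  obtain ⟨x, hx, hx2⟩ : ∃ x : F, x ≠ 0 ∧ x ^ 2 ≠ 1 := Classical.Small.exists_sq_ne_one (by omega)
  haveI : IsSimpleGroup (Matrix.ProjectiveSpecialLinearGroup (Fin 2) F) :=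
    Classical.isSimpleGroup_psl (Or.inr ⟨by simp, x, hx, hx2⟩)
  set e : ZMod p ≃+* F := ZMod.ringEquivOfPrime F hp.out hF
  set m : SL(2, ZMod p) →* SL(2, F) := Matrix.SpecialLinearGroup.map e.toRingHom with hm
  have hminj : Function.Injective m := fun u v h => by
    refine Subtype.ext (Matrix.ext fun i j => e.injective ?_)
    exact congrFun (congrFun (congrArg Subtype.val h) i) j
  have hmsurj : Function.Surjective m := fun u => by
    refine ⟨Matrix.SpecialLinearGroup.map e.symm.toRingHom u, ?_⟩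
    refine Subtype.ext (Matrix.ext fun i j => ?_)
    simp [hm]
  set θ := (QuotientGroup.mk' (Subgroup.center SL(2, F))).comp m with hθ
  have hθs : Function.Surjective θ := (QuotientGroup.mk'_surjective _).comp hmsurj
  have hθc : θ.ker ≤ Subgroup.center SL(2, ZMod p) := by
    intro z hz
    rw [MonoidHom.mem_ker, hθ, MonoidHom.comp_apply, QuotientGroup.mk'_apply,
      QuotientGroup.eq_one_iff, Subgroup.mem_center_iff] at hz
    refine Subgroup.mem_center_iff.mpr fun g => hminj ?_
    rw [map_mul, map_mul]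
    exact hz (m g)
  have hle : Ψ.ker ≤ θ.ker := by
    have hn : (Ψ.ker.map θ).Normal := (inferInstance : Ψ.ker.Normal).map θ hθs
    rcases hn.eq_bot_or_eq_top with h | h
    · exact (Subgroup.map_eq_bot_iff _).mp h
    · exfalso
      refine hΨ (MonoidHom.ker_eq_top_iff.mp ?_)
      have hsup : Ψ.ker ⊔ θ.ker = ⊤ := by
        rw [← Subgroup.comap_map_eq, h, Subgroup.comap_top]
      have hperf : commutator SL(2, ZMod p) = ⊤ := by
        refine Classical.commutator_sl_eq_top (Or.inr ?_)
        exact Classical.Small.exists_sq_ne_one (by rw [ZMod.card]; omega)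
      rw [← top_le_iff, ← hperf, commutator_def, Subgroup.commutator_le]
      intro u _ v _
      obtain ⟨k, hk, z, hz, rfl⟩ := mem_sup_of_normal_right.mp (hsup ▸ mem_top u : u ∈ Ψ.ker ⊔ θ.ker)
      obtain ⟨l, hl, w, hw, rfl⟩ := mem_sup_of_normal_right.mp (hsup ▸ mem_top v : v ∈ Ψ.ker ⊔ θ.ker)
      rw [MonoidHom.mem_ker, map_commutatorElement, map_mul, map_mul, MonoidHom.mem_ker.mp hk,
        MonoidHom.mem_ker.mp hl, one_mul, one_mul, ← map_commutatorElement,
        commutatorElement_eq_one_iff_mul_comm.mpr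
          (Subgroup.mem_center_iff.mp (hθc hz) w).symm, map_one]
  refine ⟨(QuotientGroup.lift Ψ.ker θ hle).comp
    (QuotientGroup.quotientKerEquivRange Ψ).symm.toMonoidHom, ?_⟩
  exact (QuotientGroup.lift_surjective_of_surjective _ θ hθs hle).comp
    (QuotientGroup.quotientKerEquivRange Ψ).symm.surjective

universe u

variable {Y : Type u} [Group Y] [Finite Y] {p : ℕ} [Fact p.Prime]
  {F : Type*} [Field F] [Fintype F] {G A : Subgroup Y} [G.Normal]

/-- A quadratic element of G is trivial in an irreducible representation over the prime field. -/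
theorem eq_one_of_quadratic_rep_free (hp : 5 ≤ p) (hF : Fintype.card F = p)
    (hcop : (Nat.card A).Coprime (Nat.card G))
    (hfree : ¬ Cfsg.Involves (Matrix.ProjectiveSpecialLinearGroup (Fin 2) F)
      ↥(G ⊓ centralizer (A : Set Y)))
    {V : Type u} [AddCommGroup V] [Module (ZMod p) V] [FiniteDimensional (ZMod p) V] [Nontrivial V]
    (Φ : Y →* LinearMap.GeneralLinearGroup (ZMod p) V)
    (hirr : ∀ S : AddSubgroup V,
      (∀ y : Y, ∀ v ∈ S, (Φ y : Module.End (ZMod p) V) v ∈ S) → S = ⊥ ∨ S = ⊤)
    {g : Y} (hg : g ∈ G)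
    (hq : ((Φ g : Module.End (ZMod p) V) - 1) * ((Φ g : Module.End (ZMod p) V) - 1) = 0) :
    Φ g = 1 := by
  haveI : Finite (LinearMap.GeneralLinearGroup (ZMod p) V) := finite_gl
  have hGn : ∀ y : Y, conjBy (G.map Φ) (Φ y) = G.map Φ := fun y => by
    rw [conjBy_map, conjBy_eq_self_of_forall fun x hx =>
      (inferInstance : G.Normal).conj_mem x hx y]
  -- the p-core is trivial
  have hcore : opCore p (G.map Φ) = ⊥ := by
    set O := opCore p (G.map Φ) with hO
    let S : AddSubgroup V :=
      { carrier := {v | ∀ o ∈ O, (o : Module.End (ZMod p) V) v = v}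
        zero_mem' := fun o _ => map_zero _
        add_mem' := fun {a b} ha hb o ho => by rw [map_add, ha o ho, hb o ho]
        neg_mem' := fun {a} ha o ho => by rw [map_neg, ha o ho] }
    have hS : ∀ y : Y, ∀ v ∈ S, (Φ y : Module.End (ZMod p) V) v ∈ S := by
      intro y v hv o ho
      have ho' : (Φ y)⁻¹ * o * Φ y ∈ O :=
        mem_conjBy.mp ((conjBy_opCore (p := p) (hGn y)).symm ▸ ho)
      rw [← Module.End.mul_apply, ← Units.val_mul,
        show o * Φ y = Φ y * ((Φ y)⁻¹ * o * Φ y) by group, Units.val_mul, Module.End.mul_apply,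
        hv _ ho']
    rcases hirr S hS with h | h
    · obtain ⟨v, -, hv0, hv⟩ := exists_fixed_vector (opCore_isPGroup (p := p) (G.map Φ)) ⊤
        top_ne_bot (fun o _ m _ => Submodule.mem_top)
      have hvS : v ∈ S := hv
      rw [h, AddSubgroup.mem_bot] at hvS
      exact absurd hvS hv0
    · exact (Subgroup.eq_bot_iff_forall _).mpr fun o ho => Units.ext (LinearMap.ext fun v =>
        (show v ∈ S from h ▸ AddSubgroup.mem_top v) o ho)
  by_contra hne
  have hinG : InG (G.map Φ) (1 + ((Φ g : Module.End (ZMod p) V) - 1)) :=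
    ⟨Φ g, mem_map_of_mem Φ hg, (add_sub_cancel _ _).symm⟩
  have hq0 : (Φ g : Module.End (ZMod p) V) - 1 ≠ 0 := fun h => hne (Units.ext (sub_eq_zero.mp h))
  obtain ⟨Ψ, hΨ, hΨ1⟩ := exists_hom (A := A.map Φ) hp
    (by rintro _ ⟨a, -, rfl⟩; exact hGn a)
    ((hcop.coprime_dvd_left (Subgroup.card_map_dvd A Φ)).coprime_dvd_right
      (Subgroup.card_map_dvd G Φ))
    hcore (isQuad_mk hq0 hq hinG)
  -- lift the fixed points
  set N := G ⊓ Φ.ker with hN
  have hsolv : Group.IsSolvable A ∨ Group.IsSolvable N := by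
    rcases Nat.even_or_odd (Nat.card A) with h | h
    · refine Or.inr (Cfsg.Agent.S0205.result ?_)
      have hG : Odd (Nat.card G) := by
        have h' := hcop.coprime_dvd_left (even_iff_two_dvd.mp h)
        rw [Nat.coprime_two_left] at h'
        exact h'
      exact hG.of_dvd_nat (card_dvd_of_le inf_le_left)
    · exact Or.inl (Cfsg.Agent.S0205.result h)
  set C := G ⊓ centralizer (A : Set Y) with hC
  let K : Subgroup C := Ψ.range.comap (Φ.comp C.subtype)
  let r : K →* Ψ.range := ((Φ.comp C.subtype).comp K.subtype).codRestrict _ fun x => x.2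
  have hr : Function.Surjective r := by
    rintro ⟨h, hh⟩
    obtain ⟨⟨k, hk, rfl⟩, hc⟩ := hΨ hh
    obtain ⟨n, hn, hkn⟩ := Coprime.exists_fixed_mem_leftCoset (A := A) (N := N)
      le_normalizer_of_normal (hcop.coprime_dvd_right (card_dvd_of_le inf_le_left)) hsolv (k := k)
      (fun a ha => by
        refine ⟨G.mul_mem (G.inv_mem hk) ((inferInstance : G.Normal).conj_mem k hk a), ?_⟩
        show k⁻¹ * (a * k * a⁻¹) ∈ Φ.ker
        rw [MonoidHom.mem_ker, map_mul, map_mul, map_mul, map_inv, map_inv,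
          mem_centralizer_iff.mp hc (Φ a) (mem_map_of_mem Φ ha)]
        group)
    have hΦ : Φ (k * n) = Φ k := by rw [map_mul, MonoidHom.mem_ker.mp hn.2, mul_one]
    refine ⟨⟨⟨k * n, mul_mem hk hn.1, hkn⟩, ?_⟩, Subtype.ext hΦ⟩
    show Φ (k * n) ∈ Ψ.range
    rw [hΦ]
    exact hh
  obtain ⟨f, hf⟩ := exists_hom_psl hp hF Ψ hΨ1
  exact hfree (involves_of_hom (f.comp r) (hf.comp hr))

/-- A quadratic element of G is trivial on a chief factor of p-power order. -/
theorem trivOn_of_quadratic_free (hp : 5 ≤ p) (hF : Fintype.card F = p)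
    (hcop : (Nat.card A).Coprime (Nat.card G))
    (hfree : ¬ Cfsg.Involves (Matrix.ProjectiveSpecialLinearGroup (Fin 2) F)
      ↥(G ⊓ centralizer (A : Set Y)))
    {U V : Subgroup Y} (hUV : Cfsg.IsChiefFactor U V) (hU : IsPGroup p U) {g : Y}
    (hg : g ∈ G) (hq : ⁅⁅U, zpowers g⁆, zpowers g⁆ ≤ V) : KInf.TrivOn g U V := by
  have hVn : V.Normal := hUV.2.2.1
  set f := QuotientGroup.mk' V with hf
  set N := U.map f with hNdef
  have hmin := Control.isMinNormal_image hUV
  have hNn : N.Normal := hmin.normal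
  obtain ⟨hcomm, hexp⟩ := Control.image_facts hUV hU
  letI : CommGroup N :=
    { (inferInstance : Group N) with mul_comm := fun a b => hcomm.is_comm.comm a b }
  haveI : Nontrivial N := (nontrivial_iff_ne_bot N).mpr hmin.ne_bot
  set ρ : Y →* MulAut N := (MulAut.conjNormal (H := N)).comp f with hρ
  have hval : ∀ (y : Y) (n : N), ((ρ y n : N) : Y ⧸ V) = f y * (n : Y ⧸ V) * (f y)⁻¹ :=
    fun y n => MulAut.conjNormal_apply _ _
  let md : Module (ZMod p) (Additive N) :=
    AddCommGroup.zmodModule fun x => Additive.toMul.injective (Subtype.ext (by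
      simpa using hexp _ (Additive.toMul x).2))
  haveI : Finite (Additive N) := Finite.of_equiv N Additive.ofMul
  haveI hfd : @FiniteDimensional (ZMod p) (Additive N) _ Additive.addCommGroup md :=
    @Module.Finite.of_finite (ZMod p) (Additive N) _ _ md _
  haveI : Nontrivial (Additive N) := Additive.ofMul.injective.nontrivial
  have hqq : ∀ n : N, ρ g (ρ g n * n⁻¹) = ρ g n * n⁻¹ := by
    intro n
    refine mul_inv_eq_one.mp (Subtype.ext ?_)
    obtain ⟨u, hu, he⟩ := n.2
    simp only [Subgroup.coe_mul, Subgroup.coe_inv, hval, ← he]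
    simp only [← map_mul, ← map_inv]
    refine (QuotientGroup.eq_one_iff _).mpr (hq ?_)
    have h1 : g * u * g⁻¹ * u⁻¹ ∈ ⁅U, zpowers g⁆ := by
      rw [← commutatorElement_def, ← commutatorElement_inv]
      exact inv_mem (commutator_mem_commutator hu (mem_zpowers g))
    rw [← commutatorElement_def, ← commutatorElement_inv]
    exact inv_mem (commutator_mem_commutator h1 (mem_zpowers g))
  have key : ((@autLin p N _ md).comp ρ) g = 1 := by
    refine @eq_one_of_quadratic_rep_free Y _ _ p _ F _ _ G A _ hp hF hcop hfree (Additive N)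
      Additive.addCommGroup md hfd _ ((@autLin p N _ md).comp ρ) ?_ g hg ?_
    · intro S hS
      have hSn : (S.toSubgroup'.map N.subtype).Normal := by
        refine ⟨fun n hn c => ?_⟩
        obtain ⟨y, rfl⟩ := QuotientGroup.mk'_surjective V c
        obtain ⟨w, hw, rfl⟩ := hn
        exact ⟨ρ y w, hS y (Additive.ofMul w) hw, hval y w⟩
      rcases hmin.eq_of_le _ hSn (map_subtype_le _) with h | h
      · refine Or.inl ((AddSubgroup.eq_bot_iff_forall S).mpr fun x hx => ?_)
        have hx' : Additive.toMul x ∈ S.toSubgroup' := hx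
        rw [(map_eq_bot_iff_of_injective _ N.subtype_injective).mp h, mem_bot] at hx'
        exact Additive.toMul.injective hx'
      · refine Or.inr (eq_top_iff.mpr fun x _ => ?_)
        have h' : S.toSubgroup' = ⊤ := map_injective N.subtype_injective (by
          rw [h, ← MonoidHom.range_eq_map, range_subtype])
        exact (h' ▸ mem_top _ : Additive.toMul x ∈ S.toSubgroup')
    · refine LinearMap.ext fun v => Additive.toMul.injective ?_
      have h := hqq (Additive.toMul v)
      simp only [Module.End.mul_apply, LinearMap.sub_apply, Module.End.one_apply,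
        LinearMap.zero_apply, toMul_sub, toMul_zero, MonoidHom.comp_apply, autLin_apply]
      rw [div_eq_one, ← div_eq_mul_inv] at *
      exact h
  have key' : ρ g = 1 := (@autLin_injective p N _ md) (key.trans (map_one _).symm)
  intro u hu
  have h := congrArg Subtype.val (DFunLike.congr_fun key' ⟨f u, mem_map_of_mem f hu⟩)
  simp only [hval, MulAut.one_apply] at h
  refine (QuotientGroup.eq_one_iff _).mp ?_
  change f ⁅g, u⁆ = 1
  rw [map_commutatorElement, commutatorElement_def, mul_inv_eq_one]
  exact h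

/-- The p-stability on the normal p-subgroups of H with normal image. -/
theorem stableOn_free (hp : 5 ≤ p) (hF : Fintype.card F = p)
    (hcop : (Nat.card A).Coprime (Nat.card G))
    (hfree : ¬ Cfsg.Involves (Matrix.ProjectiveSpecialLinearGroup (Fin 2) F)
      ↥(G ⊓ centralizer (A : Set Y)))
    {H : Type*} [Group H] [Finite H] {ι : H →* Y} (hι : Function.Injective ι) (hιG : ι.range ≤ G)
    (S : Sylow p H) : StableOn p S fun B => (B.map ι).Normal := by
  intro B hB hBp hBn a _ hq
  haveI := hB
  haveI : (B.map ι).Normal := hBn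
  set K := KInf.kerOn (G := Y) fun U _ => U ≤ B.map ι with hK
  have hq' : ⁅⁅B.map ι, zpowers (ι a)⁆, zpowers (ι a)⁆ = ⊥ := by
    rw [← MonoidHom.map_zpowers, ← map_commutator, ← map_commutator, hq, Subgroup.map_bot]
  have haK : ι a ∈ K := fun U V hUV hU =>
    trivOn_of_quadratic_free hp hF hcop hfree hUV ((hBp.map ι).to_le hU) (hιG ⟨a, rfl⟩)
      (((commutator_mono (commutator_mono hU le_rfl) le_rfl).trans hq'.le).trans bot_le)
  refine Fusion.mem_normalCore_of_mk_mem_pCore ?_ S
  refine Core.le_pCore (hN := (inferInstance : K.Normal).comap ι |>.map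
    (QuotientGroup.mk' (centralizer (B : Set H))) (QuotientGroup.mk'_surjective _)) ?_
    (mem_map_of_mem _ (show a ∈ K.comap ι from haK))
  rintro ⟨_, x, hx, rfl⟩
  obtain ⟨b, hb⟩ := KInf.exists_pow_coprime (p := p) (ι x)
  refine ⟨b, Subtype.ext ?_⟩
  change (QuotientGroup.mk' (centralizer (B : Set H)) x) ^ p ^ b = 1
  rw [← map_pow]
  refine (QuotientGroup.eq_one_iff _).mpr (mem_centralizer_iff.mpr fun z hz => hι ?_)
  have h := KInf.centralizes_of_trivOn (Z₀ := (⊥ : Subgroup Y)) (hBp.map ι) bot_le hb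
    (fun w hw => by rw [mem_bot.mp hw, mul_one, mul_inv_cancel])
    (fun U V hUV _ hU => pow_mem (show ι x ∈ K from hx) (p ^ b) U V hUV hU) (ι z)
    (mem_map_of_mem ι hz)
  rw [map_mul, map_mul, map_pow]
  exact (mul_inv_eq_iff_eq_mul.mp h).symm

end Cfsg.Agent.FlavellPSL
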